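import Mathlib
import Cfsg.Agent.Lib.Coprime.Basic
import Cfsg.Agent.Lib.PGroups.UniqueSubgroup
import Cfsg.Agent.Lib.PGroups.AbelianNormal
import Cfsg.Agent.Lib.PGroups.Normal

/-!
# Groups in which `p`-subgroups of equal order are conjugate: the structure of a Sylow subgroup
-/

set_option autoImplicit false
set_option linter.unusedSectionVars false

namespace Cfsg.Agent.EqualOrderConj

open Subgroup

variable {G : Type*} [Group G] [Finite G] {p : ℕ} [hp : Fact p.Prime]

/-- Any two `p`-subgroups of the same order are conjugate. -/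
def EqConj (p : ℕ) (G : Type*) [Group G] : Prop :=
  ∀ H K : Subgroup G, IsPGroup p H → IsPGroup p K → Nat.card H = Nat.card K →
    ∃ g : G, K = H.map (MulAut.conj g).toMonoidHom

theorem comm_of_card (h : EqConj p G) {H K : Subgroup G} {k : ℕ} (hH : Nat.card H = p ^ k)
    (hK : Nat.card K = p ^ k) (hc : ∀ a ∈ H, ∀ b ∈ H, a * b = b * a) :
    ∀ a ∈ K, ∀ b ∈ K, a * b = b * a := by
  obtain ⟨g, rfl⟩ := h H K (IsPGroup.of_card hH) (IsPGroup.of_card hK) (hH.trans hK.symm)
  rintro _ ⟨a, ha, rfl⟩ _ ⟨b, hb, rfl⟩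
  rw [← map_mul, hc a ha b hb, map_mul]

theorem pow_of_card (h : EqConj p G) {H K : Subgroup G} {k : ℕ} (hH : Nat.card H = p ^ k)
    (hK : Nat.card K = p ^ k) (hc : ∀ a ∈ H, a ^ p = 1) : ∀ a ∈ K, a ^ p = 1 := by
  obtain ⟨g, rfl⟩ := h H K (IsPGroup.of_card hH) (IsPGroup.of_card hK) (hH.trans hK.symm)
  rintro _ ⟨a, ha, rfl⟩
  rw [← map_pow, hc a ha, map_one]

theorem mem_normalizer_of_conj_mem {H : Subgroup G} {g : G} (h : ∀ a ∈ H, g * a * g⁻¹ ∈ H) :
    g ∈ normalizer (H : Set G) := by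
  have he : H.map (MulAut.conj g).toMonoidHom = H := by
    refine eq_of_le_of_card_ge ?_ ?_
    · rintro _ ⟨a, ha, rfl⟩
      exact h a ha
    · rw [card_map_of_injective (f := (MulAut.conj g).toMonoidHom) (MulAut.conj g).injective]
  rw [mem_normalizer_iff]
  intro a
  refine ⟨h a, fun ha => ?_⟩
  obtain ⟨b, hb, hb'⟩ := he.symm ▸ ha
  exact (MulAut.conj g).injective hb' ▸ hb

/-- Adding an element of order `p`. -/
theorem card_sup_elt {A : Subgroup G} {a : ℕ} (hA : Nat.card A = p ^ a) {y : G}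
    (hy : y ∈ normalizer (A : Set G)) (hyA : y ∉ A) (hyp : y ^ p = 1) :
    Nat.card ↥(A ⊔ zpowers y) = p ^ (a + 1) := by
  have ho : orderOf y = p := orderOf_eq_prime hyp fun e => hyA (e ▸ one_mem A)
  have hd : Disjoint A (zpowers y) := by
    rw [disjoint_def]
    intro w hwA hwy
    by_contra hw
    have he : zpowers w = zpowers y := by
      refine eq_of_le_of_card_ge (zpowers_le.2 hwy) ?_
      rw [Nat.card_zpowers, Nat.card_zpowers, ho]
      have h1 : orderOf w ∣ p := ho ▸ Nat.card_zpowers y ▸ orderOf_dvd_natCard _ hwy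
      rcases (Nat.dvd_prime hp.out).1 h1 with h2 | h2
      · exact absurd (orderOf_eq_one_iff.1 h2) hw
      · rw [h2]
    exact hyA (zpowers_le.1 (he ▸ zpowers_le.2 hwA))
  rw [Coprime.card_sup_of_disjoint (zpowers_le.2 hy) hd, hA, Nat.card_zpowers, ho, pow_succ]

theorem comm_sup_elt {A : Subgroup G} (hA : ∀ a ∈ A, ∀ b ∈ A, a * b = b * a) {y : G}
    (hy : ∀ a ∈ A, y * a = a * y) :
    ∀ a ∈ A ⊔ zpowers y, ∀ b ∈ A ⊔ zpowers y, a * b = b * a := by
  have hn : zpowers y ≤ normalizer (A : Set G) := zpowers_le.2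
    (mem_normalizer_of_conj_mem fun a ha => by rw [hy a ha, mul_inv_cancel_right]; exact ha)
  intro a ha b hb
  obtain ⟨a₁, ha₁, a₂, ⟨i, rfl⟩, rfl⟩ := (Coprime.mem_sup_of_le_normalizer hn).mp ha
  obtain ⟨b₁, hb₁, b₂, ⟨j, rfl⟩, rfl⟩ := (Coprime.mem_sup_of_le_normalizer hn).mp hb
  have c1 : Commute a₁ b₁ := hA _ ha₁ _ hb₁
  have c2 : Commute a₁ (y ^ j) := ((show Commute y a₁ from hy _ ha₁).zpow_left j).symm
  have c3 : Commute (y ^ i) b₁ := (show Commute y b₁ from hy _ hb₁).zpow_left i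
  have c4 : Commute (y ^ i) (y ^ j) := (Commute.refl y).zpow_zpow i j
  exact ((c1.mul_right c2).mul_left (c3.mul_right c4))

theorem pow_sup_elt {A : Subgroup G} (hA : ∀ a ∈ A, a ^ p = 1) {y : G}
    (hy : ∀ a ∈ A, y * a = a * y) (hyp : y ^ p = 1) : ∀ a ∈ A ⊔ zpowers y, a ^ p = 1 := by
  have hn : zpowers y ≤ normalizer (A : Set G) := zpowers_le.2
    (mem_normalizer_of_conj_mem fun a ha => by rw [hy a ha, mul_inv_cancel_right]; exact ha)
  intro a ha
  obtain ⟨a₁, ha₁, a₂, ⟨i, rfl⟩, rfl⟩ := (Coprime.mem_sup_of_le_normalizer hn).mp ha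
  simp only
  rw [((show Commute y a₁ from hy _ ha₁).zpow_left i).symm.mul_pow, hA _ ha₁, one_mul,
    ← zpow_natCast (y ^ i), ← zpow_mul, mul_comm, zpow_mul, zpow_natCast, hyp, one_zpow]

theorem zpowers_data {z : G} (hz : z ^ p = 1) (hz1 : z ≠ 1) :
    Nat.card (zpowers z) = p ^ 1 ∧ (∀ a ∈ zpowers z, ∀ b ∈ zpowers z, a * b = b * a) ∧
      ∀ a ∈ zpowers z, a ^ p = 1 := by
  refine ⟨by rw [Nat.card_zpowers, orderOf_eq_prime hz hz1, pow_one], ?_, ?_⟩
  · rintro _ ⟨i, rfl⟩ _ ⟨j, rfl⟩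
    exact (Commute.refl z).zpow_zpow i j
  · rintro _ ⟨i, rfl⟩
    show (z ^ i) ^ p = 1
    rw [← zpow_natCast (z ^ i), ← zpow_mul, mul_comm, zpow_mul, zpow_natCast, hz, one_zpow]

theorem pair_data {z x : G} (hz : z ^ p = 1) (hz1 : z ≠ 1) (hx : x ^ p = 1)
    (hxz : x ∉ zpowers z) (hc : x * z = z * x) :
    Nat.card ↥(zpowers z ⊔ zpowers x) = p ^ 2 ∧
      (∀ a ∈ zpowers z ⊔ zpowers x, ∀ b ∈ zpowers z ⊔ zpowers x, a * b = b * a) ∧
      ∀ a ∈ zpowers z ⊔ zpowers x, a ^ p = 1 := by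
  obtain ⟨h1, h2, h3⟩ := zpowers_data hz hz1
  have hcomm : ∀ a ∈ zpowers z, x * a = a * x := by
    rintro _ ⟨i, rfl⟩
    exact (show Commute x z from hc).zpow_right i
  exact ⟨card_sup_elt h1 (mem_normalizer_of_conj_mem fun a ha => by
      rw [hcomm a ha, mul_inv_cancel_right]; exact ha) hxz hx,
    comm_sup_elt h2 hcomm, pow_sup_elt h3 hcomm hx⟩

/-- Two subgroups of order `p` force exponent `p`. -/
theorem exponent_prime (h : EqConj p G) {P : Subgroup G} (hP : IsPGroup p P) {z x : G}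
    (hz : z ^ p = 1) (hz1 : z ≠ 1) (hx : x ^ p = 1) (hxz : x ∉ zpowers z) (hc : x * z = z * x) :
    ∀ a ∈ P, a ^ p = 1 := by
  obtain ⟨hE, -, hEp⟩ := pair_data hz hz1 hx hxz hc
  intro a ha
  obtain ⟨k, hk⟩ := (IsPGroup.iff_orderOf.1 hP) ⟨a, ha⟩
  rw [Subgroup.orderOf_mk] at hk
  by_contra hne
  have hk2 : 2 ≤ k := by
    by_contra hk2
    apply hne
    rw [← orderOf_dvd_iff_pow_eq_one, hk]
    calc p ^ k ∣ p ^ 1 := pow_dvd_pow p (by omega)
      _ = p := pow_one p
  have hb : orderOf (a ^ p ^ (k - 2)) = p ^ 2 := by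
    rw [orderOf_pow_of_dvd (pow_ne_zero _ hp.out.ne_zero) (hk ▸ pow_dvd_pow p (by omega)), hk,
      Nat.pow_div (by omega) hp.out.pos, show k - (k - 2) = 2 by omega]
  have h1 := pow_of_card h hE (by rw [Nat.card_zpowers, hb]) hEp _
    (mem_zpowers (a ^ p ^ (k - 2)))
  have h2 := orderOf_dvd_of_pow_eq_one h1
  rw [hb] at h2
  have h3 := Nat.le_of_dvd hp.out.pos h2
  have h4 := Nat.pow_lt_pow_right hp.out.one_lt (show 1 < 2 by norm_num)
  rw [pow_one] at h4
  omega

/-- The Sylow subgroup has a unique subgroup of order `p`, or has exponent `p`. -/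
theorem cyclic_or_quaternion_or_exponent (h : EqConj p G) {P : Subgroup G} (hP : IsPGroup p P) :
    (IsCyclic P ∨ (p = 2 ∧ ∃ n : ℕ, Nonempty (P ≃* QuaternionGroup (2 ^ n)))) ∨
      ∀ a ∈ P, a ^ p = 1 := by
  by_cases hu : ∀ H K : Subgroup P, Nat.card H = p → Nat.card K = p → H = K
  · exact Or.inl (PGroups.UniqueSubgroup.isCyclic_or_quaternion hP hu)
  right
  push Not at hu
  obtain ⟨H, K, hH, hK, hne⟩ := hu
  haveI : Nontrivial P := by
    haveI : Nontrivial H := Finite.one_lt_card_iff_nontrivial.1 (hH ▸ hp.out.one_lt)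
    exact Subtype.val_injective.nontrivial (α := H)
  haveI := hP.center_nontrivial
  obtain ⟨c, hc⟩ := exists_prime_orderOf_dvd_card' p
    ((hP.to_subgroup (center P)).card_eq_or_dvd.resolve_left Finite.one_lt_card.ne')
  have hcp : (c : P) ^ p = 1 := by
    rw [← hc, ← SubgroupClass.coe_pow, pow_orderOf_eq_one, OneMemClass.coe_one]
  have hc1 : (c : P) ≠ 1 := fun e => by
    rw [OneMemClass.coe_eq_one.1 e, orderOf_one] at hc
    exact hp.out.one_lt.ne hc
  obtain ⟨L, hL, hLne⟩ : ∃ L : Subgroup P, Nat.card L = p ∧ L ≠ zpowers (c : P) := by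
    by_cases hHc : H = zpowers (c : P)
    · exact ⟨K, hK, fun e => hne (hHc.trans e.symm)⟩
    · exact ⟨H, hH, hHc⟩
  obtain ⟨x, hxL, hx⟩ : ∃ x ∈ L, x ∉ zpowers (c : P) := by
    by_contra hall
    push Not at hall
    refine hLne (eq_of_le_of_card_ge hall ?_)
    rw [hL, Nat.card_zpowers, orderOf_eq_prime hcp hc1]
  have hxp : x ^ p = 1 :=
    orderOf_dvd_iff_pow_eq_one.1 (hL ▸ L.orderOf_dvd_natCard hxL)
  refine exponent_prime h hP (z := ((c : P) : G)) (x := (x : G)) ?_ ?_ ?_ ?_ ?_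
  · exact_mod_cast congrArg Subtype.val hcp
  · exact fun e => hc1 (Subtype.ext e)
  · simpa using congrArg Subtype.val hxp
  · rintro ⟨i, hi⟩
    exact hx ⟨i, Subtype.ext (by simpa using hi)⟩
  · simpa using congrArg Subtype.val (mem_center_iff.1 c.2 x)

/-- The Sylow `2`-subgroups. -/
theorem two_structure (h : EqConj 2 G) {P : Subgroup G} (hP : IsPGroup 2 P) :
    IsCyclic P ∨ (IsMulCommutative P ∧ ∀ a ∈ P, a ^ 2 = 1) ∨
      Nonempty (P ≃* QuaternionGroup 2) := by
  haveI : Fact (Nat.Prime 2) := ⟨Nat.prime_two⟩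
  rcases cyclic_or_quaternion_or_exponent h hP with (h' | ⟨-, n, ⟨e⟩⟩) | h'
  · exact Or.inl h'
  · rcases n with _ | _ | n
    · left
      haveI : IsCyclic (QuaternionGroup (2 ^ 0)) := by
        refine isCyclic_of_orderOf_eq_card (QuaternionGroup.xa 0) ?_
        rw [QuaternionGroup.orderOf_xa, Nat.card_eq_fintype_card, QuaternionGroup.card, pow_zero,
          mul_one]
      exact isCyclic_of_surjective e.symm.toMonoidHom e.symm.surjective
    · exact Or.inr (Or.inr ⟨e⟩)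
    · exfalso
      set N := 2 ^ (n + 2) with hN
      haveI : NeZero N := ⟨pow_ne_zero _ two_ne_zero⟩
      set a : QuaternionGroup N := QuaternionGroup.a 1
      set b : QuaternionGroup N := QuaternionGroup.xa 0
      have hcardQ : Nat.card (QuaternionGroup N) = 2 ^ (n + 4) := by
        rw [Nat.card_eq_fintype_card, QuaternionGroup.card, hN,
          show n + 4 = 2 + (n + 2) by omega, pow_add 2 2]
        norm_num
      have ha : Nat.card (zpowers a) = 2 ^ (n + 3) := by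
        rw [Nat.card_zpowers, QuaternionGroup.orderOf_a_one, hN, ← pow_succ']
      obtain ⟨K, hK, hbK⟩ := Sylow.exists_subgroup_card_pow_prime_le 2 (m := n + 3)
        (hcardQ ▸ pow_dvd_pow 2 (by omega)) (zpowers b) (n := 2)
        (by rw [Nat.card_zpowers, QuaternionGroup.orderOf_xa]; norm_num) (by omega)
      set f : QuaternionGroup N →* G := P.subtype.comp e.symm.toMonoidHom
      have hf : Function.Injective f := P.subtype_injective.comp e.symm.injective
      obtain ⟨g, hg⟩ := h ((zpowers a).map f) (K.map f)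
        (IsPGroup.of_card (n := n + 3) (by rw [card_map_of_injective hf, ha]))
        (IsPGroup.of_card (n := n + 3) (by rw [card_map_of_injective hf, hK]))
        (by rw [card_map_of_injective hf, card_map_of_injective hf, ha, hK])
      obtain ⟨k, hkK, hk⟩ : ∃ k ∈ K, f k = g * f a * g⁻¹ := by
        have : g * f a * g⁻¹ ∈ K.map f :=
          hg ▸ ⟨f a, ⟨a, mem_zpowers a, rfl⟩, rfl⟩
        exact this
      have hko : orderOf k = 2 ^ (n + 3) := by
        rw [← orderOf_injective f hf k, hk, ← MulAut.conj_apply,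
          MulEquiv.orderOf_eq,
          orderOf_injective f hf, ← Nat.card_zpowers, ha]
      have hkeq : zpowers k = K := eq_of_le_of_card_ge (zpowers_le.2 hkK)
        (by rw [hK, Nat.card_zpowers, hko])
      cases k with
      | xa i =>
        rw [QuaternionGroup.orderOf_xa] at hko
        have : 2 ^ 3 ≤ 2 ^ (n + 3) := Nat.pow_le_pow_right (by norm_num) (by omega)
        omega
      | a i =>
        have hi : zpowers (QuaternionGroup.a i) ≤ zpowers a := zpowers_le.2
          ⟨(i.val : ℤ), by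
            show a ^ (i.val : ℤ) = _
            rw [zpow_natCast, QuaternionGroup.a_one_pow, ZMod.natCast_zmod_val]⟩
        obtain ⟨j, hj⟩ := hi (hkeq.symm ▸ hbK (mem_zpowers b))
        haveI : NeZero (2 * N) := ⟨mul_ne_zero two_ne_zero (NeZero.ne N)⟩
        obtain ⟨m, hm⟩ : ∃ m : ℕ, a ^ m = b := by
          rw [← Submonoid.mem_powers_iff, mem_powers_iff_mem_zpowers]
          exact ⟨j, hj⟩
        rw [QuaternionGroup.a_one_pow] at hm
        exact nomatch hm
  · refine Or.inr (Or.inl ⟨⟨⟨fun a b => ?_⟩⟩, h'⟩)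
    have key : ∀ a : P, a⁻¹ = a := fun a => inv_eq_of_mul_eq_one_right (Subtype.ext (by
      simpa [pow_two] using h' a a.2))
    calc a * b = (a * b)⁻¹ := (key _).symm
      _ = b * a := by rw [mul_inv_rev, key, key]

end Cfsg.Agent.EqualOrderConj
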