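import Cfsg.Agent.Lib.EqualOrderConj.Basic
import Cfsg.Agent.Lib.ZStar.Consequences
import Cfsg.Agent.InvChar.Core

/-!
# The nonabelian group of order `p³` does not occur
-/

set_option autoImplicit false
set_option linter.unusedSectionVars false

namespace Cfsg.Agent.EqualOrderConj

open Subgroup

variable {G : Type*} [Group G] [Finite G] {p : ℕ} [hp : Fact p.Prime]

/-- A nonabelian subgroup of exponent `p` contains `x`, `y` and a central `z` with `y x y⁻¹ = z x`. -/
theorem exists_triple {P : Subgroup G} (hP : IsPGroup p P)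
    (hnc : ¬ ∀ a ∈ P, ∀ b ∈ P, a * b = b * a) :
    ∃ z x y : G, z ∈ P ∧ x ∈ P ∧ y ∈ P ∧ z ≠ 1 ∧ (∀ b ∈ P, b * z = z * b) ∧
      y * x * y⁻¹ = z * x := by
  have hne : center P ≠ ⊤ := fun e => hnc fun a ha b hb => by
    have h1 : (⟨b, hb⟩ : P) ∈ center P := e ▸ mem_top _
    simpa using congrArg Subtype.val (mem_center_iff.1 h1 ⟨a, ha⟩)
  haveI : Nontrivial (P ⧸ center P) := by
    rw [← Finite.one_lt_card_iff_nontrivial, ← index_eq_card]
    exact one_lt_index_of_ne_top hne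
  haveI := (hP.to_quotient (center P)).center_nontrivial
  obtain ⟨c, hc⟩ := exists_ne (1 : center (P ⧸ center P))
  obtain ⟨x, hx⟩ := QuotientGroup.mk'_surjective (center P) (c : P ⧸ center P)
  have hxZ : x ∉ center P := fun h => hc (Subtype.ext (by
    rw [← hx]; exact (QuotientGroup.eq_one_iff x).2 h))
  obtain ⟨y, hy⟩ : ∃ y : P, y * x ≠ x * y := by
    by_contra hall
    push Not at hall
    exact hxZ (mem_center_iff.2 hall)
  have hz : y * x * y⁻¹ * x⁻¹ ∈ center P := by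
    rw [← QuotientGroup.eq_one_iff]
    show QuotientGroup.mk' (center P) (y * x * y⁻¹ * x⁻¹) = 1
    rw [map_mul, map_mul, map_mul, map_inv, map_inv, hx,
      mem_center_iff.1 c.2 (QuotientGroup.mk' (center P) y), mul_inv_cancel_right, mul_inv_cancel]
  refine ⟨((y * x * y⁻¹ * x⁻¹ : P) : G), x, y, SetLike.coe_mem _, x.2, y.2, fun e => hy ?_,
    fun b hb => ?_, ?_⟩
  · have e' : y * x * y⁻¹ * x⁻¹ = 1 := Subtype.ext e
    rw [mul_inv_eq_one] at e'
    exact mul_inv_eq_iff_eq_mul.1 e'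
  · exact congrArg Subtype.val (mem_center_iff.1 hz ⟨b, hb⟩)
  · push_cast
    group

theorem triple_card {P : Subgroup G} (hexp : ∀ a ∈ P, a ^ p = 1) {z x y : G} (hz : z ∈ P)
    (hx : x ∈ P) (hy : y ∈ P) (hz1 : z ≠ 1) (hzc : ∀ b ∈ P, b * z = z * b)
    (hyx : y * x * y⁻¹ = z * x) :
    x ∉ zpowers z ∧ Nat.card ↥(zpowers z ⊔ zpowers x ⊔ zpowers y) = p ^ 3 := by
  have hxz : x ∉ zpowers z := by
    rintro ⟨i, rfl⟩
    have hc : Commute y z := hzc y hy
    rw [(hc.zpow_right i).eq, mul_inv_cancel_right] at hyx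
    exact hz1 (mul_eq_right.1 hyx.symm)
  refine ⟨hxz, ?_⟩
  obtain ⟨hcard, hcomm, -⟩ := pair_data (hexp z hz) hz1 (hexp x hx) hxz (hzc x hx)
  refine card_sup_elt hcard ?_ ?_ (hexp y hy)
  · refine mem_normalizer_of_conj_mem fun a ha => ?_
    have hnE : zpowers x ≤ normalizer (zpowers z : Set G) := by
      refine zpowers_le.2 (mem_normalizer_of_conj_mem fun b hb => ?_)
      rw [hcomm x (mem_sup_right (mem_zpowers x)) b (mem_sup_left hb), mul_inv_cancel_right]
      exact hb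
    obtain ⟨a₁, ha₁, a₂, ⟨i, rfl⟩, rfl⟩ := (Coprime.mem_sup_of_le_normalizer hnE).mp ha
    obtain ⟨j, rfl⟩ := ha₁
    show y * (z ^ j * x ^ i) * y⁻¹ ∈ zpowers z ⊔ zpowers x
    rw [show y * (z ^ j * x ^ i) * y⁻¹ = (y * z * y⁻¹) ^ j * (y * x * y⁻¹) ^ i by
      rw [conj_zpow, conj_zpow]; group, hyx, hzc y hy, mul_inv_cancel_right]
    exact mul_mem (zpow_mem (mem_sup_left (mem_zpowers z)) _)
      (zpow_mem (mul_mem (mem_sup_left (mem_zpowers z)) (mem_sup_right (mem_zpowers x))) _)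
  · intro hyE
    rw [hcomm y hyE x (mem_sup_right (mem_zpowers x)), mul_inv_cancel_right] at hyx
    exact hz1 (mul_eq_right.1 hyx.symm)

/-- A nonabelian Sylow subgroup of exponent `p` has order `p³`. -/
theorem card_eq_cube (h : EqConj p G) (P : Sylow p G) (hexp : ∀ a ∈ (P : Subgroup G), a ^ p = 1)
    {z x y : G} (hz : z ∈ (P : Subgroup G)) (hx : x ∈ (P : Subgroup G))
    (hy : y ∈ (P : Subgroup G)) (hz1 : z ≠ 1)
    (hzc : ∀ b ∈ (P : Subgroup G), b * z = z * b) (hyx : y * x * y⁻¹ = z * x) :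
    Nat.card (P : Subgroup G) = p ^ 3 ∧
      (P : Subgroup G) = zpowers z ⊔ zpowers x ⊔ zpowers y := by
  obtain ⟨-, hcard⟩ := triple_card hexp hz hx hy hz1 hzc hyx
  have hle : zpowers z ⊔ zpowers x ⊔ zpowers y ≤ (P : Subgroup G) :=
    sup_le (sup_le (zpowers_le.2 hz) (zpowers_le.2 hx)) (zpowers_le.2 hy)
  obtain ⟨n, hn⟩ := P.2.exists_card_eq
  have h3 : p ^ 3 ∣ p ^ n := hcard ▸ hn ▸ card_dvd_of_le hle
  have h3n : 3 ≤ n := (Nat.pow_dvd_pow_iff_le_right hp.out.one_lt).1 h3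
  by_cases hn3 : n = 3
  · subst hn3
    exact ⟨hn, (eq_of_le_of_card_ge hle (by rw [hcard, hn])).symm⟩
  exfalso
  obtain ⟨N, hNn, -, hN⟩ := PGroups.Normal.exists_normal_le_card P.2 (⊤ : Subgroup P) 2
    (by rw [card_top, hn]; exact Nat.pow_le_pow_right hp.out.pos (by omega))
  haveI := hNn
  have hidx := PGroups.AbelianNormal.index_centralizer_le P.2 N hN
  rw [show Nat.choose 2 2 = 1 from rfl, pow_one] at hidx
  obtain ⟨w, hw, hwN⟩ : ∃ w ∈ centralizer (N : Set P), w ∉ N := by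
    by_contra hall
    push Not at hall
    have h1 := card_le_of_le (show centralizer (N : Set P) ≤ N from hall)
    have h2 := (centralizer (N : Set P)).card_mul_index
    rw [hn] at h2
    have h3 : p ^ n ≤ p ^ 3 := by
      rw [← h2, pow_succ p 2, ← hN]
      exact Nat.mul_le_mul h1 hidx
    have := Nat.pow_lt_pow_right hp.out.one_lt (show 3 < n by omega)
    omega
  have hNc : ∀ a ∈ N, ∀ b ∈ N, a * b = b * a := fun a ha b hb => by
    simpa using congrArg Subtype.val
      ((IsPGroup.isMulCommutative_of_card_eq_prime_sq hN).is_comm.comm ⟨a, ha⟩ ⟨b, hb⟩)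
  have hwp : w ^ p = 1 := Subtype.ext (by simpa using hexp w w.2)
  have hwc : ∀ a ∈ N, w * a = a * w := fun a ha => (mem_centralizer_iff.1 hw a ha).symm
  have hA := card_sup_elt hN
    (mem_normalizer_of_conj_mem fun a ha => by rw [hwc a ha, mul_inv_cancel_right]; exact ha)
    hwN hwp
  have hAc := comm_sup_elt hNc hwc
  have hA' : Nat.card ((N ⊔ zpowers w).map (P : Subgroup G).subtype) = p ^ 3 := by
    rw [card_map_of_injective (P : Subgroup G).subtype_injective, hA]
  have key := comm_of_card h hA' hcard (by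
    rintro _ ⟨a, ha, rfl⟩ _ ⟨b, hb, rfl⟩
    rw [← map_mul, hAc a ha b hb, map_mul])
  have := key y (mem_sup_right (mem_zpowers y)) x (mem_sup_left (mem_sup_right (mem_zpowers x)))
  rw [this, mul_inv_cancel_right] at hyx
  exact hz1 (mul_eq_right.1 hyx.symm)

theorem pow_conj_of_central {v c a : G} (hc : Commute v c) (h : v * a * v⁻¹ = c * a) :
    ∀ m : ℕ, v ^ m * a * (v ^ m)⁻¹ = c ^ m * a
  | 0 => by simp
  | m + 1 => by
    have ih := pow_conj_of_central hc h m
    calc v ^ (m + 1) * a * (v ^ (m + 1))⁻¹ = v * (v ^ m * a * (v ^ m)⁻¹) * v⁻¹ := by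
          rw [pow_succ']; group
      _ = (v * c ^ m * v⁻¹) * (v * a * v⁻¹) := by rw [ih]; group
      _ = c ^ m * (c * a) := by rw [(hc.pow_right m).eq, mul_inv_cancel_right, h]
      _ = c ^ (m + 1) * a := by rw [pow_succ, mul_assoc]

/-- An element of order four modulo the centraliser of `⟨z, x⟩`. -/
theorem exists_rotation (h : EqConj p G) (P : Sylow p G)
    (hexp : ∀ a ∈ (P : Subgroup G), a ^ p = 1) {z x y : G} (hz : z ∈ (P : Subgroup G))
    (hx : x ∈ (P : Subgroup G)) (hy : y ∈ (P : Subgroup G)) (hz1 : z ≠ 1)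
    (hzc : ∀ b ∈ (P : Subgroup G), b * z = z * b) (hyx : y * x * y⁻¹ = z * x) :
    ∃ w : G, w * x * w⁻¹ = z ∧ w * z * w⁻¹ = x⁻¹ ∧
      ∀ N : Subgroup G, N.Normal → (P : Subgroup G) ≤ N → w ∈ N := by
  obtain ⟨hP3, hPeq⟩ := card_eq_cube h P hexp hz hx hy hz1 hzc hyx
  obtain ⟨hxz, -⟩ := triple_card hexp hz hx hy hz1 hzc hyx
  have hxz' : x * z = z * x := hzc x hx
  obtain ⟨hE, hEc, hEp⟩ := pair_data (hexp z hz) hz1 (hexp x hx) hxz hxz'
  have hx1 : x ≠ 1 := fun e => hxz (e ▸ one_mem _)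
  obtain ⟨g, hg⟩ := h (zpowers z) (zpowers x)
    (IsPGroup.of_card (zpowers_data (hexp z hz) hz1).1)
    (IsPGroup.of_card (zpowers_data (hexp x hx) hx1).1)
    (by rw [(zpowers_data (hexp z hz) hz1).1, (zpowers_data (hexp x hx) hx1).1])
  set C := centralizer ({x} : Set G) with hC
  have hP' : (P : Subgroup G).map (MulAut.conj g).toMonoidHom ≤ C := by
    rintro _ ⟨b, hb, rfl⟩
    obtain ⟨a, ⟨i, rfl⟩, ha⟩ : x ∈ (zpowers z).map (MulAut.conj g).toMonoidHom :=
      hg ▸ mem_zpowers x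
    rw [hC, mem_centralizer_singleton_iff, ← ha]
    have hbc : Commute b (z ^ i) := (show Commute b z from hzc b hb).zpow_right i
    exact (hbc.map (MulAut.conj g).toMonoidHom).eq
  set E := zpowers z ⊔ zpowers x
  have hEC : E ≤ C := fun a ha => mem_centralizer_singleton_iff.2
    (hEc a ha x (mem_sup_right (mem_zpowers x)))
  obtain ⟨Q, hQ⟩ : ∃ Q : Sylow p C, E.subgroupOf C ≤ (Q : Subgroup C) :=
    ((IsPGroup.of_card hE).comap_subtype).exists_le_sylow
  set R := (Q : Subgroup C).map C.subtype with hR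
  have hRC : R ≤ C := map_subtype_le _
  have hER : E ≤ R := fun a ha =>
    ⟨⟨a, hEC ha⟩, hQ (mem_subgroupOf.2 ha), rfl⟩
  have hR3 : Nat.card R = p ^ 3 := by
    have hRp : IsPGroup p R := Q.2.map _
    obtain ⟨r, hr⟩ := hRp.exists_card_eq
    obtain ⟨S, hS⟩ := hRp.exists_le_sylow
    have h1 : p ^ r ∣ p ^ 3 := by
      rw [← hr, ← hP3, P.card_eq_multiplicity, ← S.card_eq_multiplicity]
      exact card_dvd_of_le hS
    have h2 : p ^ 3 ∣ p ^ r := by
      rw [← hr, hR, card_map_of_injective C.subtype_injective]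
      refine Q.pow_dvd_card_of_pow_dvd_card ?_
      have hinj : Function.Injective ((MulAut.conj g).toMonoidHom : G →* G) :=
        (MulAut.conj g).injective
      rw [← hP3, ← card_map_of_injective hinj]
      exact card_dvd_of_le hP'
    rw [hr, Nat.dvd_antisymm h1 h2]
  obtain ⟨g', hg'⟩ := h (P : Subgroup G) R P.2 (IsPGroup.of_card hR3) (hP3.trans hR3.symm)
  have hRexp : ∀ a ∈ R, a ^ p = 1 := pow_of_card h hP3 hR3 hexp
  obtain ⟨v, hv, hvE⟩ : ∃ v ∈ R, v ∉ E := by
    by_contra hall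
    push Not at hall
    have h1 := card_le_of_le (show R ≤ E from hall)
    rw [hR3, hE] at h1
    have := Nat.pow_lt_pow_right hp.out.one_lt (show 2 < 3 by norm_num)
    omega
  have hvx : v * x = x * v := mem_centralizer_singleton_iff.1 (hRC hv)
  set c := v * z * v⁻¹ * z⁻¹ with hc
  have hcx : c ∈ zpowers x := by
    set Nx := (zpowers x).subgroupOf R
    haveI : Nx.Normal := ⟨fun n hn r => by
      rw [mem_subgroupOf] at hn ⊢
      obtain ⟨i, hi⟩ := hn
      have hrx : Commute (r : G) (n : G) :=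
        hi ▸ (show Commute (r : G) x from mem_centralizer_singleton_iff.1 (hRC r.2)).zpow_right i
      push_cast
      rw [hrx.eq, mul_inv_cancel_right]
      exact ⟨i, hi⟩⟩
    have hq : Nat.card (R ⧸ Nx) = p ^ 2 := by
      have h1 := Nx.card_eq_card_quotient_mul_card_subgroup
      rw [hR3, Nat.card_congr (subgroupOfEquivOfLe (zpowers_le.2 (hER (mem_sup_right
        (mem_zpowers x))))).toEquiv, (zpowers_data (hexp x hx) hx1).1, pow_one, pow_succ] at h1
      exact (Nat.eq_of_mul_eq_mul_right hp.out.pos h1).symm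
    have hzR : z ∈ R := hER (mem_sup_left (mem_zpowers z))
    have h1 : ((⟨v, hv⟩ * ⟨z, hzR⟩ * ⟨v, hv⟩⁻¹ * ⟨z, hzR⟩⁻¹ : R) : R ⧸ Nx) = 1 := by
      simp only [QuotientGroup.mk_mul, QuotientGroup.mk_inv]
      rw [(IsPGroup.isMulCommutative_of_card_eq_prime_sq hq).is_comm.comm
        ((⟨v, hv⟩ : R) : R ⧸ Nx)]
      group
    exact mem_subgroupOf.1 ((QuotientGroup.eq_one_iff _).1 h1)
  have hc1 : c ≠ 1 := by
    intro e
    rw [hc, mul_inv_eq_one, mul_inv_eq_iff_eq_mul] at e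
    have hvc : ∀ a ∈ E, v * a = a * v := by
      intro a ha
      obtain ⟨a₁, ⟨i, rfl⟩, a₂, ⟨j, rfl⟩, rfl⟩ := (Coprime.mem_sup_of_le_normalizer
        (zpowers_le.2 (mem_normalizer_of_conj_mem fun b hb => by
          rw [hEc x (mem_sup_right (mem_zpowers x)) b (mem_sup_left hb), mul_inv_cancel_right]
          exact hb))).mp ha
      exact (((show Commute v z from e).zpow_right i).mul_right
        ((show Commute v x from hvx).zpow_right j)).eq
    have hR' : E ⊔ zpowers v = R := eq_of_le_of_card_ge (sup_le hER (zpowers_le.2 hv)) (by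
      rw [hR3, card_sup_elt hE (mem_normalizer_of_conj_mem fun a ha => by
        rw [hvc a ha, mul_inv_cancel_right]; exact ha) hvE (hRexp v hv)])
    have hRc := comm_of_card h hR3 hP3 (hR' ▸ comm_sup_elt hEc hvc)
    rw [hRc y hy x hx, mul_inv_cancel_right] at hyx
    exact hz1 (mul_eq_right.1 hyx.symm)
  have hcz : zpowers c = zpowers x := eq_of_le_of_card_ge (zpowers_le.2 hcx) (by
    rw [(zpowers_data (hexp x hx) hx1).1, (zpowers_data (p := p) (z := c) ((zpowers_data
      (hexp x hx) hx1).2.2 c hcx) hc1).1])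
  obtain ⟨m, hm⟩ : ∃ m : ℕ, c ^ m = x⁻¹ := by
    rw [← Submonoid.mem_powers_iff, mem_powers_iff_mem_zpowers, hcz]
    exact inv_mem (mem_zpowers x)
  have hvc : Commute v c := by
    obtain ⟨i, hi⟩ := hcx
    exact hi ▸ (show Commute v x from hvx).zpow_right i
  set v' := v ^ m
  have hv'z : v' * z * v'⁻¹ = x⁻¹ * z := by
    rw [← hm]
    exact pow_conj_of_central hvc (by rw [hc]; group) m
  have hv'x : v' * x * v'⁻¹ = x := by
    rw [((show Commute v x from hvx).pow_left m).eq, mul_inv_cancel_right]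
  have hyz : y * z * y⁻¹ = z := by rw [hzc y hy, mul_inv_cancel_right]
  refine ⟨y * v' * y, ?_, ?_, fun N hN hPN => mul_mem (mul_mem (hPN hy) (pow_mem ?_ m)) (hPN hy)⟩
  · calc y * v' * y * x * (y * v' * y)⁻¹ = y * (v' * (y * x * y⁻¹) * v'⁻¹) * y⁻¹ := by group
      _ = y * ((v' * z * v'⁻¹) * (v' * x * v'⁻¹)) * y⁻¹ := by rw [hyx]; group
      _ = y * (x⁻¹ * (z * x)) * y⁻¹ := by rw [hv'z, hv'x]; group
      _ = z := by rw [← hxz', inv_mul_cancel_left, hyz]
  · calc y * v' * y * z * (y * v' * y)⁻¹ = y * (v' * (y * z * y⁻¹) * v'⁻¹) * y⁻¹ := by group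
      _ = (y * x * y⁻¹)⁻¹ * (y * z * y⁻¹) := by (conv_lhs => rw [hyz, hv'z]); group
      _ = x⁻¹ := by rw [hyx, hyz, mul_inv_rev, mul_assoc, inv_mul_cancel, mul_one]
  · rw [hg'] at hv
    obtain ⟨b, hb, rfl⟩ := hv
    exact hN.conj_mem b (hPN hb) g'

/-- Such a Sylow subgroup is abelian. -/
theorem comm_of_exponent (h : EqConj p G) (h2 : EqConj 2 G) (hp2 : p ≠ 2) (P : Sylow p G)
    (hexp : ∀ a ∈ (P : Subgroup G), a ^ p = 1) :
    ∀ a ∈ (P : Subgroup G), ∀ b ∈ (P : Subgroup G), a * b = b * a := by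
  haveI : Fact (Nat.Prime 2) := ⟨Nat.prime_two⟩
  by_contra hnc
  obtain ⟨z, x, y, hz, hx, hy, hz1, hzc, hyx⟩ := exists_triple P.2 hnc
  obtain ⟨hxz, -⟩ := triple_card hexp hz hx hy hz1 hzc hyx
  have hx1 : x ≠ 1 := fun e => hxz (e ▸ one_mem _)
  have hxx : x⁻¹ ≠ x := fun e => hx1 <| by
    have h1 : x ^ 2 = 1 := by rw [pow_two]; conv_lhs => arg 1; rw [← e]
                              exact inv_mul_cancel x
    have h3 := orderOf_dvd_of_pow_eq_one h1
    rw [orderOf_eq_prime (hexp x hx) hx1] at h3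
    exact absurd ((Nat.prime_dvd_prime_iff_eq hp.out Nat.prime_two).1 h3) hp2
  set O := Cfsg.oddCore G with hO
  haveI : O.Normal := inferInstance
  -- the conjugation acts with order four
  have hact : ∀ {w x z : G}, w * x * w⁻¹ = z → w * z * w⁻¹ = x⁻¹ →
      ∀ l : ℕ, w ^ (4 * l + 2) * x * (w ^ (4 * l + 2))⁻¹ = x⁻¹ ∧
        w ^ (4 * l + 2) * z * (w ^ (4 * l + 2))⁻¹ = z⁻¹ := by
    intro w x z h1 h2
    have h3 : w * x⁻¹ * w⁻¹ = z⁻¹ := by rw [← h1]; group
    have h4 : w * z⁻¹ * w⁻¹ = x := by rw [← inv_inv x, ← h2]; group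
    have h5 : Commute (w ^ 4) x := mul_inv_eq_iff_eq_mul.1 <| by
      calc w ^ 4 * x * (w ^ 4)⁻¹ = w * (w * (w * (w * x * w⁻¹) * w⁻¹) * w⁻¹) * w⁻¹ := by
            simp only [pow_succ, pow_zero, one_mul]; group
        _ = x := by rw [h1, h2, h3, h4]
    have h6 : Commute (w ^ 4) z := by
      rw [← h1]
      exact ((Commute.pow_self w 4).mul_right h5).mul_right (Commute.pow_self w 4).inv_right
    intro l
    constructor
    · calc w ^ (4 * l + 2) * x * (w ^ (4 * l + 2))⁻¹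
          = (w ^ 4) ^ l * (w * (w * x * w⁻¹) * w⁻¹) * ((w ^ 4) ^ l)⁻¹ := by
            rw [pow_add, pow_mul]; group
        _ = x⁻¹ := by rw [h1, h2, ((h5.inv_right).pow_left l).eq, mul_inv_cancel_right]
    · calc w ^ (4 * l + 2) * z * (w ^ (4 * l + 2))⁻¹
          = (w ^ 4) ^ l * (w * (w * z * w⁻¹) * w⁻¹) * ((w ^ 4) ^ l)⁻¹ := by
            rw [pow_add, pow_mul]; group
        _ = z⁻¹ := by rw [h2, h3, ((h6.inv_right).pow_left l).eq, mul_inv_cancel_right]
  have hodd : ∀ a ∈ (P : Subgroup G), Odd (orderOf a) := fun a ha =>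
    (hp.out.odd_of_ne_two hp2).of_dvd_nat (orderOf_dvd_of_pow_eq_one (hexp a ha))
  -- the Sylow subgroup lies in the odd core
  have key : ∀ z x y : G, z ∈ (P : Subgroup G) → x ∈ (P : Subgroup G) → y ∈ (P : Subgroup G) →
      z ≠ 1 → (∀ b ∈ (P : Subgroup G), b * z = z * b) → y * x * y⁻¹ = z * x →
      z ∈ O ∧ x ∈ O := by
    intro z x y hz hx hy hz1 hzc hyx
    obtain ⟨w, hwx, hwz, -⟩ := exists_rotation h P hexp hz hx hy hz1 hzc hyx
    obtain ⟨k, m, hm, hwo⟩ := Nat.exists_eq_pow_mul_and_not_dvd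
      (orderOf_pos w).ne' 2 (by norm_num)
    obtain ⟨l, rfl⟩ : ∃ l, m = 2 * l + 1 := ⟨m / 2, by omega⟩
    set u := w ^ (2 * l + 1)
    obtain ⟨S, hS⟩ : ∃ S : Sylow 2 G, zpowers u ≤ (S : Subgroup G) := by
      have hu : IsPGroup 2 (zpowers u) := IsPGroup.of_card_dvd_pow (n := k) (by
        rw [Nat.card_zpowers]
        apply orderOf_dvd_of_pow_eq_one
        rw [← pow_mul, mul_comm, ← hwo, pow_orderOf_eq_one])
      exact hu.exists_le_sylow
    have huS : u ∈ (S : Subgroup G) := hS (mem_zpowers u)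
    have ht : u ^ 2 * x * (u ^ 2)⁻¹ = x⁻¹ ∧ u ^ 2 * z * (u ^ 2)⁻¹ = z⁻¹ := by
      rw [← pow_mul, show (2 * l + 1) * 2 = 4 * l + 2 by ring]
      exact hact hwx hwz l
    have hz2 : z⁻¹ ≠ z := fun e => by
      have h1 : z ^ 2 = 1 := by rw [pow_two]; conv_lhs => arg 1; rw [← e]
                                exact inv_mul_cancel z
      have h3 := orderOf_dvd_of_pow_eq_one h1
      rw [orderOf_eq_prime (hexp z hz) hz1] at h3
      exact absurd ((Nat.prime_dvd_prime_iff_eq hp.out Nat.prime_two).1 h3) hp2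
    rcases two_structure h2 S.2 with hcyc | ⟨-, hel⟩ | ⟨⟨e⟩⟩
    · -- cyclic: a normal complement
      have h2d : 2 ∣ Nat.card G := by
        have hune : u ≠ 1 := fun e => hz2 (by
          have := ht.2
          rw [e] at this
          simpa using this.symm)
        haveI : Nontrivial (S : Subgroup G) :=
          ⟨⟨⟨u, huS⟩, 1, fun e => hune (congrArg Subtype.val e)⟩⟩
        exact (S.2.card_eq_or_dvd.resolve_left Finite.one_lt_card.ne').trans
          (card_subgroup_dvd_card _)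
      have hN : ∀ a : G, Odd (orderOf a) → a ∈ O := by
        intro a ha
        have hnc' := (IsCyclic.normalizer_le_centralizer (P := S) ((Nat.minFac_eq_two_iff _).2 h2d) hcyc)
        set T := MonoidHom.transferSylow S hnc'
        have hodd' : Odd (Nat.card T.ker) := by
          rw [Nat.odd_iff, ← Nat.two_dvd_ne_zero]
          exact MonoidHom.not_dvd_card_ker_transferSylow S hnc'
        refine InvChar.Core.le_oddCore inferInstance hodd' ?_
        rw [MonoidHom.mem_ker, ← orderOf_eq_one_iff]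
        obtain ⟨r, hr⟩ := (IsPGroup.iff_orderOf.1 S.2) (T a)
        have hd := orderOf_map_dvd T a
        rw [hr] at hd ⊢
        rcases Nat.eq_zero_or_pos r with hr0 | hr0
        · rw [hr0, pow_zero]
        · exfalso
          have := (dvd_pow_self 2 hr0.ne').trans hd
          rw [Nat.odd_iff] at ha
          omega
      exact ⟨hN z (hodd z hz), hN x (hodd x hx)⟩
    · exfalso
      have h1 := ht.2
      rw [hel u huS] at h1
      exact hz2 (by simpa using h1.symm)
    · have hu4 : (u ^ 2) ^ 2 = 1 := by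
        have hq : ∀ q : QuaternionGroup 2, q ^ 4 = 1 := by decide
        have h1 : (⟨u, huS⟩ : (S : Subgroup G)) ^ 4 = 1 := e.injective (by
          rw [map_pow, map_one, hq])
        rw [← pow_mul]
        exact congrArg Subtype.val h1
      have hu2 : orderOf (u ^ 2) = 2 := orderOf_eq_prime hu4 fun e => hz2 (by
        have := ht.2
        rw [e] at this
        simpa using this.symm)
      have hiso := ZStar.UniqueInvolution.isolated
        (ZStar.Consequences.commInvEq_of_sylow_quaternion S e) hu2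
      have hmem : ∀ a : G, a ∈ (P : Subgroup G) → u ^ 2 * a * (u ^ 2)⁻¹ = a⁻¹ → a ∈ O := by
        intro a ha he
        have h1 := ZStar.Main.commutator_mem_oddCore hiso a
        rw [he] at h1
        obtain ⟨j, hj⟩ : ∃ j, p = 2 * j + 1 := hp.out.odd_of_ne_two hp2
        have : a = (a⁻¹ * a⁻¹) ^ j := by
          rw [← pow_two, ← pow_mul, inv_pow, eq_inv_iff_mul_eq_one, ← pow_succ', ← hj, hexp a ha]
        rw [this]
        exact pow_mem h1 j
      exact ⟨hmem z hz ht.2, hmem x hx ht.1⟩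
  have hxy : x * y * x⁻¹ = z⁻¹ * y := by
    have h1 : y * x = z * x * y := mul_inv_eq_iff_eq_mul.1 hyx
    have h2 : x * y = z⁻¹ * (y * x) := by rw [h1]; group
    rw [h2]; group
  have hPO : (P : Subgroup G) ≤ O := by
    obtain ⟨h1, h2⟩ := key z x y hz hx hy hz1 hzc hyx
    obtain ⟨-, h3⟩ := key z⁻¹ y x (inv_mem hz) hy hx (inv_ne_one.2 hz1)
      (fun b hb => ((show Commute b z from hzc b hb).inv_right).eq) hxy
    rw [(card_eq_cube h P hexp hz hx hy hz1 hzc hyx).2]
    exact sup_le (sup_le (zpowers_le.2 h1) (zpowers_le.2 h2)) (zpowers_le.2 h3)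
  obtain ⟨w, hwx, hwz, hwN⟩ := exists_rotation h P hexp hz hx hy hz1 hzc hyx
  have hwO : w ∈ O := hwN O inferInstance hPO
  obtain ⟨l, hl⟩ : Odd (orderOf w) :=
    (InvChar.Core.odd_card_oddCore (G := G)).of_dvd_nat (orderOf_dvd_natCard O hwO)
  have h1 := (hact hwx hwz l).1
  rw [show 4 * l + 2 = orderOf w * 2 by rw [hl]; ring, pow_mul, pow_orderOf_eq_one] at h1
  exact hxx (by simpa using h1.symm)

/-- The theorem. -/
theorem main (h : ∀ p : ℕ, p.Prime → EqConj p G) (P : Sylow p G) :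
    IsCyclic P ∨ Cfsg.IsElementaryAbelian p (P : Subgroup G) ∨
      Nonempty ((P : Subgroup G) ≃* QuaternionGroup 2) := by
  by_cases hp2 : p = 2
  · subst hp2
    rcases two_structure (h 2 Nat.prime_two) P.2 with h' | ⟨h', h''⟩ | h'
    · exact Or.inl h'
    · exact Or.inr (Or.inl ⟨h', h''⟩)
    · exact Or.inr (Or.inr h')
  · rcases cyclic_or_quaternion_or_exponent (h p hp.out) P.2 with (h' | ⟨h', -⟩) | h'
    · exact Or.inl h'
    · exact absurd h' hp2
    · refine Or.inr (Or.inl ⟨⟨⟨fun a b => Subtype.ext ?_⟩⟩, h'⟩)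
      exact comm_of_exponent (h p hp.out) (h 2 Nat.prime_two) hp2 P h' a a.2 b b.2

end Cfsg.Agent.EqualOrderConj
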